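import Groth.Agent.H81.CycIrred.Alg
import Groth.Agent.Lib.TensorMod.HomGlue
import Groth.Agent.H95.CycCover.Frames
import Groth.Agent.H95.CycCover.Base
import Mathlib.AlgebraicGeometry.FunctionField
import Mathlib.RingTheory.RootsOfUnity.AlgebraicallyClosed

/-!
# Irreducibility of normalised cyclic covers
-/

set_option autoImplicit false
set_option linter.style.haveILetI false
set_option backward.isDefEq.respectTransparency false
universe u
open CategoryTheory AlgebraicGeometry TopologicalSpace Opposite Polynomial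
open Groth.Agent.Lib.TensorMod.Gen Groth.Agent.Lib.TensorMod.Dual Groth.Agent.Lib.Ample.GenLocus
open Groth.Agent.H95.CycCover

namespace Groth.Agent.H81.CycIrred.Geom

variable {X : Scheme.{u}} {L : X.Modules}

theorem lpow_smul {U : X.Opens} (c : Γ(X, U)) (e : Γ(L, U)) : ∀ n : ℕ,
    (CycCov.lpow L U (c • e) n : Γ(CohB1.tensorPow L n, U)) =
      c ^ n • (CycCov.lpow L U e n : Γ(CohB1.tensorPow L n, U))
  | 0 => by rw [pow_zero, one_smul]; rfl
  | n + 1 => by
      show (SecTwist.tmul (CohB1.tensorPow L n) L U (CycCov.lpow L U (c • e) n) (c • e) :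
        Γ(CohB1.tensorMod (CohB1.tensorPow L n) L, U)) = _
      rw [lpow_smul c e n, tmul_smul, ← pow_succ]
      rfl

theorem coord_unique {M : X.Modules} {U : X.Opens} {e : Γ(M, U)} (he : IsGen M U e) {a b : Γ(X, U)}
    (h : a • e = b • e) : a = b := by
  refine (he U le_rfl).1 ?_
  simp only [rs_self]
  exact h

variable [IsIntegral X]

theorem nonempty_inf {U V : X.Opens} (hU : Nonempty U) (hV : Nonempty V) : Nonempty (U ⊓ V : X.Opens) := by
  obtain ⟨⟨a, ha⟩⟩ := hU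
  obtain ⟨⟨b, hb⟩⟩ := hV
  obtain ⟨x, hx⟩ := nonempty_preirreducible_inter U.2 V.2 ⟨a, ha⟩ ⟨b, hb⟩
  exact ⟨⟨x, hx⟩⟩

theorem rf_injective {U V : X.Opens} (h : V ≤ U) (hV : Nonempty V) : Function.Injective (rf h) :=
  map_injective_of_isIntegral X (homOfLE h) (H := hV)

theorem rs_injective {M : X.Modules} {U V : X.Opens} (h : V ≤ U) (hV : Nonempty V) {e : Γ(M, U)}
    (he : IsGen M U e) : Function.Injective (rs M h) := by
  intro x y hxy
  obtain ⟨a, rfl⟩ := exists_coord he x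
  obtain ⟨b, rfl⟩ := exists_coord he y
  rw [rs_smul, rs_smul] at hxy
  rw [rf_injective h hV (coord_unique (he.res h) hxy)]

theorem rs_injective_of_invertible {M : X.Modules} {U V : X.Opens} (h : V ≤ U) (hV : Nonempty V)
    {κ : Type*} (W : κ → X.Opens) (hW : U ≤ iSup W) (g : ∀ i, Γ(M, W i)) (hg : ∀ i, IsGen M (W i) (g i))
    (hne : ∀ i, Nonempty (W i)) : Function.Injective (rs M h) := by
  intro x y hxy
  refine Groth.Agent.Lib.TensorMod.HomGlue.sections_ext_cover W M hW fun i => ?_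
  rcases isEmpty_or_nonempty (U ⊓ W i : X.Opens) with he | he
  · have hb : U ⊓ W i = ⊥ := Opens.ext (Set.eq_empty_of_forall_notMem fun z hz => he.false ⟨z, hz⟩)
    obtain ⟨a, ha⟩ := exists_coord ((hg i).res (inf_le_right : U ⊓ W i ≤ W i)) (rs M inf_le_left x)
    obtain ⟨b, hb'⟩ := exists_coord ((hg i).res (inf_le_right : U ⊓ W i ≤ W i)) (rs M inf_le_left y)
    haveI : Subsingleton Γ(X, U ⊓ W i) := by rw [hb]; infer_instance
    rw [ha, hb', Subsingleton.elim a b]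
  · refine rs_injective (inf_le_left : (U ⊓ W i) ⊓ V ≤ U ⊓ W i) (nonempty_inf he hV)
      ((hg i).res inf_le_right) ?_
    rw [rs_rs, rs_rs]
    have h' : (U ⊓ W i) ⊓ V ≤ V := inf_le_right
    rw [← rs_rs M h h', ← rs_rs M h h', hxy]

theorem germ_rf {U V : X.Opens} (h : V ≤ U) [Nonempty U] [Nonempty V] (a : Γ(X, U)) :
    X.germToFunctionField V (rf h a) = X.germToFunctionField U a :=
  TopCat.Presheaf.germ_res_apply X.presheaf (homOfLE h) _ _ a

variable {k : Type u} [Field k] (f : X ⟶ Spec (CommRingCat.of k)) [Smooth f]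

include f in
theorem exists_root {U : X.affineOpens} [Nonempty U.1] {μ : ℕ} (hμ : 0 < μ) {a : Γ(X, U.1)}
    {z : X.functionField} (h : z ^ μ = X.germToFunctionField U.1 a) :
    ∃ b : Γ(X, U.1), X.germToFunctionField U.1 b = z := by
  haveI := functionField_isFractionRing_of_isAffineOpen X U.1 U.2
  haveI : IsIntegrallyClosed Γ(X, U.1) := Base.isIntegrallyClosed f U
  have h1 : IsIntegral Γ(X, U.1) (z ^ μ) := h ▸ isIntegral_algebraMap
  exact IsIntegrallyClosed.isIntegral_iff.1 (IsIntegral.of_pow hμ h1)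

variable {Y : Scheme.{u}} {N : ℕ} {s : Coh.structureModule X ⟶ CohB1.tensorPow L N} {π : Y ⟶ X}
  (R : CycCov.Root L N s π)

omit [IsIntegral X] in
theorem isReduced_of_cover (hR : CycCov.IsCover R) : IsReduced Y := by
  haveI : ∀ y : Y, _root_.IsReduced (Y.presheaf.stalk y) := fun y =>
    haveI := (hR.2.1 y).1
    inferInstance
  exact isReduced_of_isReduced_stalk Y

theorem dense_preimage (hL : PicF.IsInvertible L) (hN : 0 < N) (hR : CycCov.IsCover R)
    (U0 : X.Opens) [Nonempty U0] : Dense ((π ⁻¹ᵁ U0 : Y.Opens) : Set Y) := by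
  haveI := hR.1
  haveI := isReduced_of_cover R hR
  obtain ⟨W, hW, hW', hchart⟩ := hR.2.2
  rw [dense_iff_inter_open]
  intro O hO hne
  obtain ⟨y, hyO, hyW⟩ := hW'.inter_open_nonempty O hO hne
  obtain ⟨V, e, hyV, he⟩ := isInvertible_iff.1 hL (π y)
  obtain ⟨U, hU, hyU, hUle⟩ := exists_isAffineOpen_mem_and_subset (X := X) (x := π y) (U := W ⊓ V) ⟨hyW, hyV⟩
  haveI : Nonempty U := ⟨⟨π y, hyU⟩⟩
  have hUV : U ≤ V := fun x hx => (hUle hx).2
  obtain ⟨a, ha⟩ := Frames.exists_phi s (he.res hUV)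
  have hb := hchart ⟨U, hU⟩ (fun x hx => (hUle hx).1) (rs L hUV e) (Frames.cycIsGen (he.res hUV)) a ha
  set ch := CycCov.chart R ⟨U, hU⟩ (rs L hUV e) (Frames.cycIsGen (he.res hUV)) a ha
  obtain ⟨g, hgle, hyg⟩ := (hU.preimage π).exists_basicOpen_le (V := (⟨O, hO⟩ : Y.Opens)) ⟨y, hyO⟩ hyU
  obtain ⟨x, hx⟩ := nonempty_inf (U := U) (V := U0) inferInstance inferInstance
  obtain ⟨b, hble, hxb⟩ := hU.exists_basicOpen_le (V := U0) ⟨x, hx.2⟩ hx.1
  have hb0 : b ≠ 0 := by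
    rintro rfl
    rw [Scheme.basicOpen_zero] at hxb
    exact hxb
  have hg0 : g ≠ 0 := by
    rintro rfl
    rw [Scheme.basicOpen_zero] at hyg
    exact hyg
  have hgb : g * (π.app U).hom b ≠ 0 := by
    obtain ⟨c, rfl⟩ := hb.2 g
    intro h
    have h2 : ch (c * AdjoinRoot.of _ b) = 0 := by
      rw [map_mul, show ch (AdjoinRoot.of _ b) = (π.app U).hom b from AdjoinRoot.lift_of _]
      exact h
    have h3 : b • c = 0 := by
      rw [Algebra.smul_def, AdjoinRoot.algebraMap_eq, mul_comm]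
      exact hb.1 (h2.trans (map_zero _).symm)
    refine hg0 ?_
    have hB := (AdjoinRoot.powerBasis' (monic_X_pow_sub_C a hN.ne')).basis
    have h4 : c = 0 := hB.repr.injective (Finsupp.ext fun j => by
      have h5 := congrArg (fun t => hB.repr t j) h3
      simp only [map_smul, map_zero, Finsupp.coe_zero, Pi.zero_apply, Finsupp.smul_apply, smul_eq_mul,
        mul_eq_zero] at h5
      rw [map_zero]
      exact h5.resolve_left hb0)
    rw [h4]
    exact map_zero _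
  have hne2 : Y.basicOpen (g * (π.app U).hom b) ≠ ⊥ := fun h => hgb (eq_zero_of_basicOpen_eq_bot _ h)
  obtain ⟨z, hz⟩ := (Opens.ne_bot_iff_nonempty _).1 hne2
  rw [Scheme.basicOpen_mul] at hz
  refine ⟨z, hgle hz.1, ?_⟩
  have h6 : z ∈ π ⁻¹ᵁ X.basicOpen b := by rw [Scheme.preimage_basicOpen]; exact hz.2
  exact hble h6

/-- Irreducibility is that of the generic algebra. -/
theorem irreducibleSpace_iff (hL : PicF.IsInvertible L) (hN : 0 < N) (hR : CycCov.IsCover R)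
    {W : X.Opens} (hW : ∀ (U : X.affineOpens), U.1 ≤ W →
      ∀ (e : L.val.obj (op U.1)) (he : CycCov.IsGen L U.1 e) (f : Γ(X, U.1))
        (hf : SecTwist.val s U.1 = f • CycCov.lpow L U.1 e N), Function.Bijective (CycCov.chart R U e he f hf))
    (U : X.affineOpens) [Nonempty U.1] (hUW : U.1 ≤ W) {e : Γ(L, U.1)} (he : IsGen L U.1 e)
    (a : Γ(X, U.1)) (ha : SecTwist.val s U.1 = a • CycCov.lpow L U.1 e N) :
    IrreducibleSpace Y ↔ IsDomain (AdjoinRoot (Polynomial.X ^ N - Polynomial.C a)) := by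
  haveI := hR.1
  haveI := isReduced_of_cover R hR
  let ch := RingEquiv.ofBijective _ (hW U hUW e (Frames.cycIsGen he) a ha)
  haveI : Nontrivial (AdjoinRoot (Polynomial.X ^ N - Polynomial.C a)) :=
    ((AdjoinRoot.powerBasis' (monic_X_pow_sub_C a hN.ne')).basis.repr.toEquiv).nontrivial_congr.2 (by
      haveI : Nonempty (Fin (AdjoinRoot.powerBasis' (monic_X_pow_sub_C a hN.ne')).dim) :=
        ⟨⟨0, by rw [AdjoinRoot.powerBasis'_dim, natDegree_X_pow_sub_C]; exact hN⟩⟩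
      infer_instance)
  haveI : Nontrivial Γ(Y, π ⁻¹ᵁ U.1) := ch.injective.nontrivial
  constructor
  · intro hY
    haveI := hY
    haveI : IsIntegral Y := isIntegral_of_irreducibleSpace_of_isReduced Y
    haveI : Nonempty (π ⁻¹ᵁ U.1 : Y.Opens) := by
      by_contra h
      have h2 : (π ⁻¹ᵁ U.1 : Y.Opens) = ⊥ := Opens.ext (Set.eq_empty_of_forall_notMem fun y hy => h ⟨⟨y, hy⟩⟩)
      haveI : Subsingleton Γ(Y, π ⁻¹ᵁ U.1) := by rw [h2]; infer_instance
      exact false_of_nontrivial_of_subsingleton Γ(Y, π ⁻¹ᵁ U.1)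
    haveI : IsDomain Γ(Y, π ⁻¹ᵁ U.1) := inferInstance
    exact ch.injective.isDomain ch.toRingHom
  · intro hD
    haveI : IsDomain Γ(Y, π ⁻¹ᵁ U.1) := ch.symm.injective.isDomain ch.symm.toRingHom
    have hA : IsAffineOpen (π ⁻¹ᵁ U.1) := U.2.preimage π
    haveI : IrreducibleSpace (Spec Γ(Y, π ⁻¹ᵁ U.1)) := inferInstanceAs (IrreducibleSpace (PrimeSpectrum _))
    have hirr : IsIrreducible ((π ⁻¹ᵁ U.1 : Y.Opens) : Set Y) := by
      rw [← hA.range_fromSpec]
      have h := IrreducibleSpace.isIrreducible_univ (Spec Γ(Y, π ⁻¹ᵁ U.1))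
      rw [← Set.image_univ]
      exact h.image _ hA.fromSpec.continuous.continuousOn
    have h2 := hirr.closure
    rw [(dense_preimage R hL hN hR U.1).closure_eq] at h2
    exact (irreducibleSpace_def Y).2 h2

include f in
theorem exists_primitiveRoot [IsAlgClosed k] (hNk : (N : k) ≠ 0) : ∃ ζ : X.functionField, IsPrimitiveRoot ζ N := by
  haveI : NeZero (N : k) := ⟨hNk⟩
  obtain ⟨ζ₀, hζ₀⟩ := HasEnoughRootsOfUnity.exists_primitiveRoot k N
  haveI : Nonempty (⊤ : X.Opens) := ⟨⟨genericPoint X, trivial⟩⟩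
  let κ : k →+* X.functionField := ((X.germToFunctionField ⊤).hom.comp f.appTop.hom).comp
    (Scheme.ΓSpecIso (CommRingCat.of k)).inv.hom
  exact ⟨κ ζ₀, hζ₀.map_of_injective κ.injective⟩

include f in
theorem exists_section [IsAlgClosed k] {m μ : ℕ} (hμ : 0 < μ) (hL : PicF.IsInvertible L)
    {s : Coh.structureModule X ⟶ CohB1.tensorPow L (m * μ)}
    (U0 : X.affineOpens) [Nonempty U0.1] {g0 : Γ(L, U0.1)} (hg0 : IsGen L U0.1 g0) (a0 β : Γ(X, U0.1))
    (ha0 : SecTwist.val s U0.1 = a0 • CycCov.lpow L U0.1 g0 (m * μ)) (hβ : β ^ μ = a0) :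
    ∃ s' : Coh.structureModule X ⟶ CohB1.tensorPow L m,
      ∀ (U : X.affineOpens) (e : L.val.obj (op U.1)), CycCov.IsGen L U.1 e →
        ∀ a b : Γ(X, U.1), SecTwist.val s U.1 = a • CycCov.lpow L U.1 e (m * μ) →
          SecTwist.val s' U.1 = b • CycCov.lpow L U.1 e m → a = b ^ μ := by
  have hloc : ∀ x : X, ∃ (V : X.affineOpens) (g : Γ(L, V.1)), x ∈ V.1 ∧ IsGen L V.1 g := fun x => by
    obtain ⟨V, g, hx, hg⟩ := isInvertible_iff.1 hL x
    obtain ⟨V', hV', hx', hle⟩ := exists_isAffineOpen_mem_and_subset (X := X) (x := x) (U := V) hx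
    exact ⟨⟨V', hV'⟩, rs L (fun y hy => hle hy) g, hx', hg.res _⟩
  choose V g hxV hg using hloc
  have hne : ∀ x, Nonempty ((V x).1 ⊓ U0.1 : X.Opens) := fun x =>
    nonempty_inf ⟨⟨x, hxV x⟩⟩ inferInstance
  have key : ∀ x, ∃ b : Γ(X, (V x).1),
      rs (CohB1.tensorPow L m) inf_le_left (b • (CycCov.lpow L (V x).1 (g x) m : Γ(CohB1.tensorPow L m, (V x).1))) =
        rs (CohB1.tensorPow L m) (inf_le_right : (V x).1 ⊓ U0.1 ≤ U0.1)
          (β • (CycCov.lpow L U0.1 g0 m : Γ(CohB1.tensorPow L m, U0.1))) := by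
    intro x
    haveI : Nonempty (V x).1 := ⟨⟨x, hxV x⟩⟩
    haveI := hne x
    obtain ⟨c, hc⟩ := exists_coord ((hg x).res (inf_le_left : (V x).1 ⊓ U0.1 ≤ (V x).1)) (rs L inf_le_right g0)
    obtain ⟨a, ha⟩ := Frames.exists_phi s (hg x)
    have e1 := Frames.phi_res s (inf_le_left : (V x).1 ⊓ U0.1 ≤ _) (g x) a ha
    have e2 := Frames.phi_res s (inf_le_right : (V x).1 ⊓ U0.1 ≤ _) g0 a0 ha0
    rw [hc] at e2
    have e3 : rf (inf_le_left : (V x).1 ⊓ U0.1 ≤ _) a =
        rf (inf_le_right : (V x).1 ⊓ U0.1 ≤ _) a0 * c ^ (m * μ) := by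
      refine coord_unique (Frames.isGen_lpow ((hg x).res inf_le_left) (m * μ)) ?_
      refine (e1.symm.trans e2).trans ?_
      exact (congrArg (rf inf_le_right a0 • ·) (lpow_smul c (rs L inf_le_left (g x)) (m * μ))).trans (smul_smul _ _ _)
    have hw : (rf (inf_le_right : (V x).1 ⊓ U0.1 ≤ _) β * c ^ m) ^ μ = rf inf_le_left a := by
      rw [e3, mul_pow, ← pow_mul, ← hβ]
      exact congrArg (· * c ^ (m * μ)) (map_pow (X.presheaf.map (homOfLE _).op).hom β μ).symm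
    obtain ⟨b, hb⟩ := exists_root f hμ (U := V x) (a := a)
      (z := X.germToFunctionField _ (rf (inf_le_right : (V x).1 ⊓ U0.1 ≤ _) β * c ^ m))
      (by rw [← map_pow, hw, germ_rf])
    have hb' : rf (inf_le_left : (V x).1 ⊓ U0.1 ≤ _) b = rf inf_le_right β * c ^ m :=
      X.germToFunctionField_injective _ ((germ_rf _ b).trans hb)
    refine ⟨b, ?_⟩
    rw [rs_smul, rs_smul, Frames.rs_lpow, Frames.rs_lpow, hb', hc, lpow_smul, smul_smul]
  choose b hb using key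
  let M := CohB1.tensorPow L m
  let τ : ∀ x, Γ(M, (V x).1) := fun x => b x • (CycCov.lpow L (V x).1 (g x) m : Γ(M, (V x).1))
  have hcompat : ∀ x y, rs M (inf_le_left : (V x).1 ⊓ (V y).1 ≤ _) (τ x) = rs M inf_le_right (τ y) := by
    intro x y
    refine rs_injective (inf_le_left : (V x).1 ⊓ (V y).1 ⊓ U0.1 ≤ _)
      (nonempty_inf (nonempty_inf ⟨⟨x, hxV x⟩⟩ ⟨⟨y, hxV y⟩⟩) inferInstance)
      ((Frames.isGen_lpow (hg x) m).res inf_le_left) ?_
    rw [rs_rs, rs_rs]
    have hx' : (V x).1 ⊓ (V y).1 ⊓ U0.1 ≤ (V x).1 ⊓ U0.1 := inf_le_inf_right _ inf_le_left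
    have hy' : (V x).1 ⊓ (V y).1 ⊓ U0.1 ≤ (V y).1 ⊓ U0.1 := inf_le_inf_right _ inf_le_right
    rw [← rs_rs M inf_le_left hx', ← rs_rs M inf_le_left hy']
    rw [show rs M inf_le_left (τ x) = _ from hb x, show rs M inf_le_left (τ y) = _ from hb y, rs_rs, rs_rs]
  obtain ⟨t, ht, -⟩ := TopCat.Sheaf.existsUnique_gluing' (⟨M.presheaf, M.isSheaf⟩ : TopCat.Sheaf Ab.{u} X)
    (fun x => (V x).1) ⊤ (fun x => homOfLE le_top) (fun x _ => Opens.mem_iSup.2 ⟨x, hxV x⟩) τ hcompat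
  obtain ⟨s', hs'⟩ := exists_hom_of_sec t
  refine ⟨s', fun U (e : Γ(L, U.1)) he a b' ha hb' => ?_⟩
  rcases isEmpty_or_nonempty U.1 with hU | hU
  · haveI : IsEmpty U.1 := hU
    have h : U.1 = ⊥ := Opens.ext (Set.eq_empty_of_forall_notMem fun y hy => hU.false ⟨y, hy⟩)
    haveI : Subsingleton Γ(X, U.1) := by rw [h]; infer_instance
    exact Subsingleton.elim _ _
  obtain ⟨⟨x, hx⟩⟩ := id hU
  let O : X.Opens := U.1 ⊓ ((V x).1 ⊓ U0.1)
  haveI hO : Nonempty O := nonempty_inf hU (hne x)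
  have hO1 : O ≤ U.1 := inf_le_left
  have hO2 : O ≤ (V x).1 := inf_le_right.trans inf_le_left
  have hO3 : O ≤ U0.1 := inf_le_right.trans inf_le_right
  obtain ⟨c, hc⟩ := exists_coord (hg0.res hO3) (rs L hO1 e)
  haveI : Nonempty ((V x).1 ⊓ U.1 : X.Opens) := nonempty_inf ⟨⟨x, hxV x⟩⟩ hU
  have hc0 : c ≠ 0 := by
    rintro rfl
    rw [zero_smul] at hc
    have he0 : e = 0 := rs_injective_of_invertible hO1 hO (fun y => (V y).1)
      (fun y _ => Opens.mem_iSup.2 ⟨y, hxV y⟩) g hg (fun y => ⟨⟨y, hxV y⟩⟩)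
      (hc.trans (map_zero (L.presheaf.map (homOfLE hO1).op).hom).symm)
    haveI : Subsingleton Γ(X, U.1) := by
      refine subsingleton_of_zero_eq_one (he.1 ?_)
      show (0 : Γ(X, U.1)) • (e : Γ(L, U.1)) = (1 : Γ(X, U.1)) • (e : Γ(L, U.1))
      rw [he0, smul_zero, smul_zero]
    exact false_of_nontrivial_of_subsingleton Γ(X, U.1)
  have ea : rf hO1 a * c ^ (m * μ) = rf hO3 a0 := by
    refine coord_unique (Frames.isGen_lpow (hg0.res hO3) (m * μ)) ?_
    have e1 := Frames.phi_res s hO1 e a ha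
    rw [hc, lpow_smul] at e1
    exact ((smul_smul _ _ _).symm.trans e1.symm).trans (Frames.phi_res s hO3 g0 a0 ha0)
  have eb : rf hO1 b' * c ^ m = rf hO3 β := by
    refine coord_unique (Frames.isGen_lpow (hg0.res hO3) m) ?_
    have e1 := Frames.phi_res s' hO1 e b' hb'
    rw [hc, lpow_smul] at e1
    refine ((smul_smul _ _ _).symm.trans e1.symm).trans ?_
    show sv s' O = _
    rw [← rs_sv s' (le_top : O ≤ ⊤), hs', ← rs_rs M (le_top : (V x).1 ≤ ⊤) hO2,
      show rs M le_top t = τ x from ht x, ← rs_rs M inf_le_left (inf_le_right : O ≤ (V x).1 ⊓ U0.1),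
      show rs M inf_le_left (τ x) = _ from hb x, rs_rs, rs_smul, Frames.rs_lpow]
  refine rf_injective hO1 hO ?_
  refine mul_right_cancel₀ (pow_ne_zero (m * μ) hc0) ?_
  rw [ea, ← hβ]
  have h1 : rf hO3 (β ^ μ) = rf hO3 β ^ μ := map_pow (X.presheaf.map (homOfLE hO3).op).hom β μ
  have h2 : rf hO1 (b' ^ μ) = rf hO1 b' ^ μ := map_pow (X.presheaf.map (homOfLE hO1).op).hom b' μ
  rw [h1, h2, ← eb, mul_pow, ← pow_mul]

end Groth.Agent.H81.CycIrred.Geom
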