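import Mathlib.FieldTheory.IsAlgClosed.AlgebraicClosure
import Mathlib.RingTheory.RootsOfUnity.PrimitiveRoots
import Mathlib.RingTheory.Polynomial.GaussLemma
import Mathlib.RingTheory.AdjoinRoot
import Mathlib.FieldTheory.Minpoly.Field

/-!
# Reducibility of `X^N - a` with enough roots of unity
-/

set_option autoImplicit false
universe u

open Polynomial

namespace Groth.Agent.H81.CycIrred.Alg

theorem exists_root_of_not_irreducible {K : Type u} [Field K] {N : ℕ} (hN : 0 < N) {ζ : K}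
    (hζ : IsPrimitiveRoot ζ N) (a : K) (h : ¬ Irreducible (X ^ N - C a)) :
    ∃ μ : ℕ, 1 < μ ∧ μ ∣ N ∧ ∃ b : K, b ^ μ = a := by
  classical
  have hN1 : 1 < N := by
    rcases Nat.lt_or_ge 1 N with h1 | h1
    · exact h1
    · exfalso
      refine h ?_
      rw [show N = 1 by omega, pow_one]
      exact irreducible_X_sub_C a
  by_cases ha : a = 0
  · exact ⟨N, hN1, dvd_rfl, 0, by rw [ha, zero_pow hN.ne']⟩
  let L := AlgebraicClosure K
  obtain ⟨α, hα⟩ := IsAlgClosed.exists_pow_nat_eq (algebraMap K L a) hN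
  have hα0 : α ≠ 0 := by
    rintro rfl
    rw [zero_pow hN.ne'] at hα
    exact ha ((algebraMap K L).injective (by rw [← hα, map_zero]))
  have hint : IsIntegral K α := (Algebra.IsAlgebraic.isAlgebraic α).isIntegral
  set g := minpoly K α with hg
  have hdvd : g ∣ X ^ N - C a := minpoly.dvd K α (by simp [hα])
  have hm : g.natDegree < N := by
    refine lt_of_le_of_ne ((natDegree_le_of_dvd hdvd (monic_X_pow_sub_C a hN.ne').ne_zero).trans
      (natDegree_X_pow_sub_C).le) fun e => h ?_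
    have : g = X ^ N - C a := eq_of_monic_of_dvd_of_natDegree_le (minpoly.monic hint) (monic_X_pow_sub_C a hN.ne') hdvd
      (by rw [natDegree_X_pow_sub_C, e]) |>.symm
    rw [← this]
    exact minpoly.irreducible hint
  let F := (algebraMap K L).fieldRange
  haveI : NeZero N := ⟨hN.ne'⟩
  have hroot : ∀ r ∈ (g.map (algebraMap K L)).roots, r / α ∈ F := by
    intro r hr
    have hr0 : aeval r g = 0 := by
      have := (mem_roots'.1 hr).2
      rwa [IsRoot, eval_map, ← aeval_def] at this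
    obtain ⟨q, hq⟩ := hdvd
    have hrN : r ^ N = algebraMap K L a := by
      have h2 := congrArg (aeval r) hq
      simp only [map_sub, map_pow, aeval_X, aeval_C, map_mul, hr0, zero_mul] at h2
      exact sub_eq_zero.1 h2
    obtain ⟨i, -, hi⟩ := (hζ.map_of_injective (algebraMap K L).injective).eq_pow_of_pow_eq_one
      (ξ := r / α) (by rw [div_pow, hrN, ← hα, div_self (pow_ne_zero _ hα0)])
    exact ⟨ζ ^ i, by rw [map_pow]; exact hi⟩
  have hprod : ∀ s : Multiset L, (∀ r ∈ s, r / α ∈ F) → ∃ c ∈ F, s.prod = c * α ^ s.card := by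
    intro s
    induction s using Multiset.induction with
    | empty => exact fun _ => ⟨1, one_mem _, by simp⟩
    | cons r s ih =>
      intro hs
      obtain ⟨c, hc, e⟩ := ih fun x hx => hs x (Multiset.mem_cons_of_mem hx)
      refine ⟨r / α * c, mul_mem (hs r (Multiset.mem_cons_self r s)) hc, ?_⟩
      rw [Multiset.prod_cons, e, Multiset.card_cons, pow_succ]
      rw [mul_comm (α ^ _) α, ← mul_assoc (r / α * c) α, mul_right_comm (r / α) c α, div_mul_cancel₀ r hα0, mul_assoc]
  have hsplit : (g.map (algebraMap K L)).Splits := IsAlgClosed.splits _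
  obtain ⟨c, hc, hcprod⟩ := hprod _ hroot
  have hcard : (g.map (algebraMap K L)).roots.card = g.natDegree := by
    rw [← hsplit.natDegree_eq_card_roots, natDegree_map]
  have hcoeff := hsplit.coeff_zero_eq_prod_roots_of_monic ((minpoly.monic hint).map _)
  rw [coeff_map, natDegree_map, hcprod, hcard] at hcoeff
  have hc0 : c ≠ 0 := by
    rintro rfl
    rw [zero_mul, mul_zero, ← map_zero (algebraMap K L)] at hcoeff
    exact minpoly.coeff_zero_ne_zero hint hα0 ((algebraMap K L).injective hcoeff)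
  have hm' : α ^ g.natDegree ∈ F := by
    have h2 : (-1 : L) ^ g.natDegree * c * α ^ g.natDegree ∈ F := by
      rw [mul_assoc, ← hcoeff]; exact ⟨_, rfl⟩
    have h3 : ((-1 : L) ^ g.natDegree * c) ∈ F := mul_mem (pow_mem (neg_mem (one_mem _)) _) hc
    have h4 := mul_mem (inv_mem h3) h2
    rwa [← mul_assoc, inv_mul_cancel₀ (mul_ne_zero (pow_ne_zero _ (neg_ne_zero.2 one_ne_zero)) hc0), one_mul] at h4
  have hN' : α ^ N ∈ F := ⟨a, hα.symm⟩
  set d := Nat.gcd N g.natDegree with hd
  have hdF : α ^ d ∈ F := by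
    have e : (α ^ d : L) = (α ^ N) ^ Nat.gcdA N g.natDegree * (α ^ g.natDegree) ^ Nat.gcdB N g.natDegree := by
      rw [← zpow_natCast α d, ← zpow_natCast α N, ← zpow_natCast α g.natDegree, ← zpow_mul, ← zpow_mul,
        ← zpow_add₀ hα0, hd, Nat.gcd_eq_gcd_ab]
    rw [e]
    exact mul_mem (zpow_mem hN' _) (zpow_mem hm' _)
  have hdpos : 0 < d := Nat.gcd_pos_of_pos_left _ hN
  have hdlt : d < N := lt_of_le_of_lt (Nat.gcd_le_right _ (minpoly.natDegree_pos hint)) hm
  obtain ⟨μ, hμ⟩ := Nat.gcd_dvd_left N g.natDegree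
  obtain ⟨b, hb⟩ := hdF
  refine ⟨μ, ?_, Dvd.intro_left d hμ.symm, b, (algebraMap K L).injective ?_⟩
  · rcases Nat.lt_or_ge 1 μ with h1 | h1
    · exact h1
    · exfalso
      rcases Nat.eq_zero_or_pos μ with rfl | hμ0
      · simp at hμ; omega
      · obtain rfl : μ = 1 := by omega
        rw [mul_one] at hμ; omega
  · rw [map_pow, hb, ← pow_mul, ← hμ, hα]

theorem isDomain_adjoinRoot {B K : Type u} [CommRing B] [IsDomain B] [Field K] [Algebra B K]
    (hinj : Function.Injective (algebraMap B K)) {f : B[X]} (hf : f.Monic)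
    (h : Irreducible (f.map (algebraMap B K))) : IsDomain (AdjoinRoot f) := by
  haveI : Fact (Irreducible (f.map (algebraMap B K))) := ⟨h⟩
  let ψ : AdjoinRoot f →+* AdjoinRoot (f.map (algebraMap B K)) :=
    AdjoinRoot.lift ((AdjoinRoot.of _).comp (algebraMap B K)) (AdjoinRoot.root _) (by
      rw [← eval₂_map]; exact AdjoinRoot.eval₂_root _)
  have hψ : Function.Injective ψ := by
    rw [injective_iff_map_eq_zero]
    intro x hx
    obtain ⟨p, rfl⟩ := AdjoinRoot.mk_surjective x
    have e : ψ (AdjoinRoot.mk f p) = AdjoinRoot.mk _ (p.map (algebraMap B K)) := by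
      rw [AdjoinRoot.lift_mk, ← eval₂_map, ← AdjoinRoot.aeval_eq, aeval_def, AdjoinRoot.algebraMap_eq]
    rw [e, AdjoinRoot.mk_eq_zero] at hx
    rw [AdjoinRoot.mk_eq_zero]
    exact (Polynomial.map_dvd_map (algebraMap B K) hinj hf).1 hx
  exact hψ.isDomain ψ

theorem not_isDomain_adjoinRoot {B : Type u} [CommRing B] [Nontrivial B] {m μ : ℕ} (hm : 0 < m) (hμ : 1 < μ) (b : B) :
    ¬ IsDomain (AdjoinRoot (X ^ (m * μ) - C (b ^ μ))) := by
  intro _
  have hN : m * μ ≠ 0 := Nat.mul_ne_zero hm.ne' (by omega)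
  set f := (X : B[X]) ^ (m * μ) - C (b ^ μ) with hf
  have hfm : f.Monic := monic_X_pow_sub_C _ hN
  set g := (X : B[X]) ^ m - C b with hg
  have hgm : g.Monic := monic_X_pow_sub_C _ hm.ne'
  have hdvd : g ∣ f := by
    rw [hf, pow_mul, C_pow]; exact sub_dvd_pow_sub_pow _ _ μ
  obtain ⟨q, hq⟩ := hdvd
  have hqm : q.Monic := hgm.of_mul_monic_left (hq ▸ hfm)
  have hdeg : f.natDegree = g.natDegree + q.natDegree := by rw [hq, hgm.natDegree_mul hqm]
  rw [natDegree_X_pow_sub_C, natDegree_X_pow_sub_C] at hdeg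
  have hlt : m < m * μ := lt_mul_of_one_lt_right hm hμ
  have h0 : AdjoinRoot.mk f g * AdjoinRoot.mk f q = 0 := by
    rw [← map_mul, ← hq, AdjoinRoot.mk_self]
  rcases mul_eq_zero.1 h0 with h1 | h1 <;> rw [AdjoinRoot.mk_eq_zero] at h1
  · exact hfm.not_dvd_of_natDegree_lt hgm.ne_zero (by rw [natDegree_X_pow_sub_C, natDegree_X_pow_sub_C]; exact hlt) h1
  · exact hfm.not_dvd_of_natDegree_lt hqm.ne_zero (by rw [natDegree_X_pow_sub_C]; omega) h1

end Groth.Agent.H81.CycIrred.Alg
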